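import Groth.Prelude.Def_W4c5qllcourbesmultMultCrv
import Mathlib.Algebra.Module.Torsion.Free
import Mathlib.RingTheory.DiscreteValuationRing.Basic
import Mathlib.LinearAlgebra.FreeModule.Basic
import Mathlib.LinearAlgebra.FreeModule.PID
import Mathlib.RingTheory.Finiteness.Defs
import Mathlib.LinearAlgebra.Dual.Defs
import Mathlib.RingTheory.AdjoinRoot
import Mathlib.LinearAlgebra.Dimension.Localization

/-!
Basic facts on the truncated polynomial ring `MultCrv.Rn R n = R[X]/(X^n)` and its modules.
-/

set_option autoImplicit false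
universe u v w

namespace K940.MultCrvBasic
open Polynomial MultCrv

section Ring
variable (R : Type u) [CommRing R] (n : ℕ)

theorem z_pow_n : z R n ^ n = 0 := by
  rw [z, ← map_pow, Ideal.Quotient.eq_zero_iff_mem]
  exact Ideal.subset_span rfl

theorem z_pow_eq_zero {k : ℕ} (hk : n ≤ k) : z R n ^ k = 0 := by
  obtain ⟨j, rfl⟩ := Nat.exists_eq_add_of_le hk
  rw [pow_add, z_pow_n, zero_mul]

instance finiteRn : Module.Finite R (Rn R n) :=
  (monic_X_pow n).finite_quotient

instance freeRn : Module.Free R (Rn R n) :=
  (monic_X_pow n).free_quotient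

/-- induction principle -/
theorem Rn_induction {P : Rn R n → Prop} (a : Rn R n)
    (hC : ∀ r : R, P (algebraMap R (Rn R n) r)) (hadd : ∀ a b, P a → P b → P (a + b))
    (hz : ∀ a, P a → P (z R n * a)) : P a := by
  obtain ⟨p, rfl⟩ := Ideal.Quotient.mk_surjective a
  induction p using Polynomial.induction_on' with
  | add p q hp hq => rw [map_add]; exact hadd _ _ hp hq
  | monomial k r =>
    induction k with
    | zero => exact hC r
    | succ k ih =>
      have : (monomial (k + 1) r : R[X]) = X * monomial k r := by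
        rw [X_mul_monomial]
      rw [this, map_mul]
      exact hz _ ih

end Ring

section Mod
variable {R : Type u} [CommRing R] {n : ℕ} {M : Type v} [AddCommGroup M] [Module (Rn R n) M]

theorem mem_filt {i : ℕ} {u : M} : u ∈ filt R n M i ↔ ∃ v : M, z R n ^ i • v = u := by
  rw [filt, LinearMap.mem_range]; rfl

theorem mem_filt2 {i : ℕ} {u : M} : u ∈ filt2 R n M i ↔ z R n ^ i • u = 0 := by
  rw [filt2, Submodule.mem_torsionBy_iff]

/-- if `u ≠ 0`, some `z^j u` is nonzero and killed by `z` -/
theorem exists_pow_smul (u : M) (hu : u ≠ 0) :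
    ∃ j : ℕ, z R n ^ j • u ≠ 0 ∧ z R n • (z R n ^ j • u) = 0 := by
  classical
  have hex : ∃ k, z R n ^ k • u = 0 := ⟨n, by rw [z_pow_n]; exact zero_smul (Rn R n) u⟩
  have hk := Nat.find_spec hex
  have hpos : 0 < Nat.find hex := by
    rw [Nat.pos_iff_ne_zero]
    intro h0
    rw [h0, pow_zero, one_smul] at hk
    exact hu hk
  refine ⟨Nat.find hex - 1, Nat.find_min hex (by omega), ?_⟩
  rw [smul_smul, ← pow_succ', Nat.sub_add_cancel hpos]
  exact hk

/-- an additive map commuting with `R` and `z` is `A`-linear. -/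
noncomputable def mkLinear {N : Type w} [AddCommGroup N] [Module (Rn R n) N] (f : M →+ N)
    (hC : ∀ (r : R) (m : M), f (algebraMap R (Rn R n) r • m) = algebraMap R (Rn R n) r • f m)
    (hz : ∀ m : M, f (z R n • m) = z R n • f m) : M →ₗ[Rn R n] N where
  toFun := f
  map_add' := f.map_add
  map_smul' := by
    intro a m
    simp only [RingHom.id_apply]
    revert m
    refine Rn_induction R n (P := fun a => ∀ m : M, f (a • m) = a • f m) a hC ?_ ?_
    · intro a b ha hb m
      rw [add_smul, map_add, ha, hb, add_smul]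
    · intro a ha m
      rw [mul_smul, hz, ha, mul_smul]

@[simp] theorem mkLinear_apply {N : Type w} [AddCommGroup N] [Module (Rn R n) N] (f : M →+ N)
    (hC) (hz) (m : M) : mkLinear (R := R) (n := n) f hC hz m = f m := rfl

end Mod

section ModR
variable {R : Type u} [CommRing R] {n : ℕ} {M : Type v} [AddCommGroup M] [Module (Rn R n) M]
  [Module R M] [IsScalarTower R (Rn R n) M]

theorem smul_comm' (r : R) (a : Rn R n) (m : M) : r • (a • m) = a • (r • m) :=
  algebra_compatible_smul (Rn R n) r (a • m) ▸ algebra_compatible_smul (Rn R n) r m ▸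
    smul_comm _ _ _

variable (R n M) in
theorem finite_of_finite [Module.Finite (Rn R n) M] : Module.Finite R M :=
  Module.Finite.trans (Rn R n) M

/-- `R`-torsion is detected on `M^(1)`. -/
theorem isTorsionFree_of_filt2_one [IsDomain R]
    (h : Module.IsTorsionFree R ↥(filt2 R n M 1)) : Module.IsTorsionFree R M := by
  rw [Module.isTorsionFree_iff_smul_eq_zero] at h ⊢
  intro r u hru
  by_contra hcon
  push Not at hcon
  obtain ⟨hr, hu⟩ := hcon
  obtain ⟨j, hj0, hj1⟩ := exists_pow_smul (R := R) (n := n) u hu
  have hmem : z R n ^ j • u ∈ filt2 R n M 1 := by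
    rw [mem_filt2, pow_one]; exact hj1
  have h1 := h r ⟨z R n ^ j • u, hmem⟩ (by
    apply Subtype.ext
    change r • (z R n ^ j • u) = 0
    rw [smul_comm', hru, smul_zero])
  rcases h1 with h1 | h1
  · exact hr h1
  · exact hj0 (congrArg Subtype.val h1)

theorem isTorsionFree_filt2 [Module.IsTorsionFree R M] (i : ℕ) :
    Module.IsTorsionFree R ↥(filt2 R n M i) :=
  Function.Injective.moduleIsTorsionFree (N := M) (fun x => x.1) Subtype.val_injective
    (fun _ _ => rfl)

/-- multiplication by `z^i` as an `R`-linear map -/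
noncomputable def mulZ (R : Type u) [CommRing R] (n : ℕ) (M : Type v) [AddCommGroup M] [Module (Rn R n) M]
    [Module R M] [IsScalarTower R (Rn R n) M] (i : ℕ) : M →ₗ[R] M :=
  ((z R n ^ i) • (LinearMap.id : M →ₗ[Rn R n] M)).restrictScalars R

@[simp] theorem mulZ_apply (i : ℕ) (m : M) : mulZ R n M i m = z R n ^ i • m := rfl

theorem finite_sub [IsNoetherianRing R] [Module.Finite (Rn R n) M] (N : Submodule (Rn R n) M) :
    Module.Finite R ↥N := by
  have := finite_of_finite R n M
  have : IsNoetherian R M := isNoetherian_of_isNoetherianRing_of_finite R M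
  exact Module.Finite.of_injective (N.subtype.restrictScalars R) Subtype.val_injective

theorem finite_quot [Module.Finite R M] (N : Submodule (Rn R n) M) :
    Module.Finite R (M ⧸ N) :=
  Module.Finite.of_surjective (N.mkQ.restrictScalars R) N.mkQ_surjective

end ModR

end K940.MultCrvBasic
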