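import Groth.Agent.MultCrv.K940.Basic

/-!
The truncated polynomial ring `A = R[X]/(X^n)` is Frobenius over `R`: `Hom_A(M, A) = Hom_R(M, R)` by the
top coefficient functional.
-/

set_option autoImplicit false
universe u v w

namespace K940.MultCrvDuality
open Polynomial MultCrv K940.MultCrvBasic

section Ring
variable (R : Type u) [CommRing R] (n : ℕ)

theorem coeff_eq_zero_of_mem {p : R[X]} (hp : p ∈ Ideal.span {(X : R[X]) ^ n}) {i : ℕ} (hi : i < n) :
    p.coeff i = 0 := by
  rw [Ideal.mem_span_singleton] at hp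
  exact X_pow_dvd_iff.mp hp i hi

/-- the `i`-th coefficient, `i < n`, as an additive map. -/
noncomputable def coAdd (i : ℕ) (hi : i < n) : Rn R n →+ R :=
  QuotientAddGroup.lift _ ((Polynomial.lcoeff R i).toAddMonoidHom) (by
    intro p hp
    exact coeff_eq_zero_of_mem R n hp hi)

@[simp] theorem coAdd_mk (i : ℕ) (hi : i < n) (p : R[X]) :
    coAdd R n i hi (Ideal.Quotient.mk _ p) = p.coeff i := rfl

theorem coAdd_smul (i : ℕ) (hi : i < n) (r : R) (a : Rn R n) :
    coAdd R n i hi (algebraMap R (Rn R n) r * a) = r * coAdd R n i hi a := by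
  obtain ⟨p, rfl⟩ := Ideal.Quotient.mk_surjective a
  have : (algebraMap R (Rn R n) r * Ideal.Quotient.mk _ p : Rn R n) =
    Ideal.Quotient.mk _ (C r * p) := by rw [map_mul]; rfl
  rw [this, coAdd_mk, coAdd_mk, coeff_C_mul]

theorem coAdd_zpow_mul (k i : ℕ) (hi : i < n) (a : Rn R n) :
    coAdd R n i hi (z R n ^ k * a) = if h : k ≤ i then coAdd R n (i - k) (by omega) a else 0 := by
  obtain ⟨p, rfl⟩ := Ideal.Quotient.mk_surjective a
  have : (z R n ^ k * Ideal.Quotient.mk _ p : Rn R n) =
    Ideal.Quotient.mk _ (X ^ k * p) := by rw [map_mul, map_pow]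
  rw [this, coAdd_mk, coeff_X_pow_mul']
  split_ifs <;> simp

theorem ext_co {a b : Rn R n} (h : ∀ i (hi : i < n), coAdd R n i hi a = coAdd R n i hi b) :
    a = b := by
  obtain ⟨p, rfl⟩ := Ideal.Quotient.mk_surjective a
  obtain ⟨q, rfl⟩ := Ideal.Quotient.mk_surjective b
  rw [Ideal.Quotient.eq, Ideal.mem_span_singleton, X_pow_dvd_iff]
  intro i hi
  have := h i hi
  rw [coAdd_mk, coAdd_mk] at this
  rw [coeff_sub, this, sub_self]

/-- the expansion of an element by its coefficients -/
theorem eq_sum (a : Rn R n) :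
    a = ∑ i : Fin n, algebraMap R (Rn R n) (coAdd R n i i.2 a) * z R n ^ (i : ℕ) := by
  apply ext_co
  intro j hj
  rw [map_sum, Finset.sum_eq_single (⟨j, hj⟩ : Fin n)]
  · rw [mul_comm, coAdd_zpow_mul, dif_pos le_rfl]
    have h0 : 0 < n := by omega
    have : coAdd R n (j - j) (by omega) (algebraMap R (Rn R n) (coAdd R n j hj a)) =
        coAdd R n 0 h0 (Ideal.Quotient.mk _ (C (coAdd R n j hj a))) := by
      congr 1
      simp
    change _ = coAdd R n (j - j) (by omega) (algebraMap R (Rn R n) (coAdd R n j hj a))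
    rw [this, coAdd_mk, coeff_C_zero]
  · intro i _ hij
    rw [mul_comm, coAdd_zpow_mul]
    split_ifs with h
    · change coAdd R n (j - i) _ (Ideal.Quotient.mk _ (C (coAdd R n i i.2 a))) = 0
      rw [coAdd_mk, coeff_C_of_ne_zero]
      intro h'
      apply hij
      apply Fin.ext
      simp only
      omega
    · rfl
  · intro h; exact absurd (Finset.mem_univ _) h

end Ring

section Up
variable {R : Type u} [CommRing R] {n : ℕ} {M : Type v} [AddCommGroup M] [Module (Rn R n) M]
  [Module R M] [IsScalarTower R (Rn R n) M]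

/-- the `A`-linear form attached to an `R`-linear form. -/
noncomputable def up (g : M →ₗ[R] R) : M →ₗ[Rn R n] Rn R n :=
  mkLinear
    { toFun := fun m => ∑ i ∈ Finset.range n, algebraMap R (Rn R n) (g (z R n ^ (n - 1 - i) • m)) * z R n ^ i
      map_zero' := by simp
      map_add' := by intro a b; simp [add_mul, Finset.sum_add_distrib] }
    (by
      intro r m
      simp only [AddMonoidHom.coe_mk, ZeroHom.coe_mk, smul_eq_mul, Finset.mul_sum]
      refine Finset.sum_congr rfl fun i _ => ?_
      rw [← mul_assoc, ← map_mul, algebraMap_smul, ← smul_comm' r, map_smul, smul_eq_mul])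
    (by
      intro m
      simp only [AddMonoidHom.coe_mk, ZeroHom.coe_mk, smul_eq_mul]
      rcases Nat.eq_zero_or_pos n with hn | hn
      · subst hn; simp
      · obtain ⟨k, rfl⟩ : ∃ k, n = k + 1 := ⟨n - 1, by omega⟩
        rw [Finset.sum_range_succ', Finset.sum_range_succ]
        have h0 : z R (k+1) ^ (k + 1 - 1 - 0) • z R (k+1) • m = 0 := by
          rw [smul_smul, ← pow_succ]
          have : k + 1 - 1 - 0 + 1 = k + 1 := by omega
          rw [this, z_pow_n]; exact zero_smul (Rn R (k+1)) m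
        rw [h0, map_zero, map_zero, zero_mul, add_zero, mul_add, Finset.mul_sum]
        have h1 : z R (k+1) * (algebraMap R (Rn R (k+1)) (g (z R (k+1) ^ (k + 1 - 1 - k) • m)) * z R (k+1) ^ k) = 0 := by
          rw [mul_left_comm, ← pow_succ', z_pow_n, mul_zero]
        rw [h1, add_zero]
        refine Finset.sum_congr rfl fun i hi => ?_
        rw [Finset.mem_range] at hi
        have h2 : z R (k+1) ^ (k + 1 - 1 - (i + 1)) • z R (k+1) • m = z R (k+1) ^ (k + 1 - 1 - i) • m := by
          rw [smul_smul, ← pow_succ]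
          congr 2
          omega
        rw [h2, mul_left_comm, ← pow_succ'])

theorem up_apply (g : M →ₗ[R] R) (m : M) :
    up g m = ∑ i ∈ Finset.range n, algebraMap R (Rn R n) (g (z R n ^ (n - 1 - i) • m)) * z R n ^ i := rfl

theorem up_apply_fin (g : M →ₗ[R] R) (m : M) :
    up g m = ∑ i : Fin n, algebraMap R (Rn R n) (g (z R n ^ (n - 1 - i) • m)) * z R n ^ (i : ℕ) := by
  rw [up_apply, Finset.sum_range]

theorem coAdd_up (g : M →ₗ[R] R) (m : M) (j : ℕ) (hj : j < n) :
    coAdd R n j hj (up g m) = g (z R n ^ (n - 1 - j) • m) := by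
  rw [up_apply_fin, map_sum, Finset.sum_eq_single (⟨j, hj⟩ : Fin n)]
  · rw [mul_comm, coAdd_zpow_mul, dif_pos le_rfl]
    have h0 : 0 < n := by omega
    have : coAdd R n (j - j) (by omega) (algebraMap R (Rn R n) (g (z R n ^ (n - 1 - j) • m))) =
        coAdd R n 0 h0 (Ideal.Quotient.mk _ (C (g (z R n ^ (n - 1 - j) • m)))) := by
      congr 1
      simp
    rw [this, coAdd_mk, coeff_C_zero]
  · intro i _ hij
    rw [mul_comm, coAdd_zpow_mul]
    split_ifs with h
    · change coAdd R n (j - i) _ (Ideal.Quotient.mk _ (C _)) = 0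
      rw [coAdd_mk, coeff_C_of_ne_zero]
      intro h'
      apply hij
      apply Fin.ext
      simp only
      omega
    · rfl
  · intro h; exact absurd (Finset.mem_univ _) h

/-- the top coefficient of an `A`-linear form -/
noncomputable def top (hn : 1 ≤ n) (f : M →ₗ[Rn R n] Rn R n) : M →ₗ[R] R where
  toFun m := coAdd R n (n - 1) (by omega) (f m)
  map_add' a b := by simp
  map_smul' r m := by
    rw [← algebraMap_smul (Rn R n) r m, map_smul, smul_eq_mul, coAdd_smul]; rfl

theorem top_apply (hn : 1 ≤ n) (f : M →ₗ[Rn R n] Rn R n) (m : M) :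
    top hn f m = coAdd R n (n - 1) (by omega) (f m) := rfl

theorem top_zpow (hn : 1 ≤ n) (f : M →ₗ[Rn R n] Rn R n) (m : M) (j : ℕ) (hj : j < n) :
    top hn f (z R n ^ (n - 1 - j) • m) = coAdd R n j hj (f m) := by
  rw [top_apply, map_smul, smul_eq_mul, coAdd_zpow_mul, dif_pos (by omega)]
  congr 1
  congr 1
  omega

theorem up_top (hn : 1 ≤ n) (f : M →ₗ[Rn R n] Rn R n) : up (top hn f) = f := by
  ext m
  apply ext_co
  intro j hj
  rw [coAdd_up, top_zpow hn f m j hj]

theorem top_up (hn : 1 ≤ n) (g : M →ₗ[R] R) : top hn (up g : M →ₗ[Rn R n] Rn R n) = g := by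
  ext m
  rw [top_apply, coAdd_up]
  congr 1
  rw [Nat.sub_self, pow_zero, one_smul]

theorem up_add (g g' : M →ₗ[R] R) : (up (g + g') : M →ₗ[Rn R n] Rn R n) = up g + up g' := by
  ext m
  apply ext_co
  intro j hj
  rw [LinearMap.add_apply, map_add, coAdd_up, coAdd_up, coAdd_up]; rfl

theorem up_smul (r : R) (g : M →ₗ[R] R) :
    (up (r • g) : M →ₗ[Rn R n] Rn R n) = algebraMap R (Rn R n) r • up g := by
  ext m
  apply ext_co
  intro j hj
  rw [LinearMap.smul_apply, smul_eq_mul, coAdd_smul, coAdd_up, coAdd_up]; rfl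

end Up

end K940.MultCrvDuality
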