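import Mathlib.Algebra.Category.ModuleCat.Ext.HasExt
import Mathlib.Algebra.Homology.DerivedCategory.Ext.Linear
import Mathlib.Algebra.Homology.DerivedCategory.Ext.ExactSequences
import Mathlib.Algebra.Homology.DerivedCategory.Ext.EnoughProjectives
import Mathlib.Algebra.Category.ModuleCat.Projective
import Mathlib.Algebra.Homology.ShortComplex.ModuleCat
import Mathlib.RingTheory.Finiteness.Cardinality

/-! dimension shifting for `Ext` of modules -/

set_option autoImplicit false
universe u v w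

namespace K940.MultCrvExt
open CategoryTheory Abelian

variable {A : Type u} [CommRing A]

/-- the short complex `ker g → P → M` -/
noncomputable abbrev kerSC {P M : Type u} [AddCommGroup P] [Module A P] [AddCommGroup M] [Module A M]
    (g : P →ₗ[A] M) : ShortComplex (ModuleCat.{u} A) :=
  ShortComplex.mk (ModuleCat.ofHom (LinearMap.ker g).subtype) (ModuleCat.ofHom g) (by
    ext x
    exact x.2)

theorem kerSC_shortExact {P M : Type u} [AddCommGroup P] [Module A P] [AddCommGroup M]
    [Module A M] (g : P →ₗ[A] M) (hg : Function.Surjective g) : (kerSC g).ShortExact where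
  exact := by
    rw [ShortComplex.moduleCat_exact_iff]
    intro x hx
    exact ⟨⟨x, hx⟩, rfl⟩
  mono_f := (ModuleCat.mono_iff_injective _).mpr Subtype.val_injective
  epi_g := (ModuleCat.epi_iff_surjective _).mpr hg

/-- dimension shift: every class in degree `n + 1` comes from degree `n` of the kernel. -/
theorem exists_of_succ {P M : Type u} [AddCommGroup P] [Module A P] [AddCommGroup M] [Module A M]
    [Module.Projective A P] (g : P →ₗ[A] M) (hg : Function.Surjective g) (N : ModuleCat.{u} A)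
    (n : ℕ) (x : Ext (ModuleCat.of A M) N (n + 1)) :
    ∃ y : Ext (ModuleCat.of A (LinearMap.ker g)) N n,
      (kerSC_shortExact g hg).extClass.comp y (add_comm 1 n) = x := by
  have : Projective (ModuleCat.of A P) := (IsProjective.iff_projective _).mp inferInstance
  exact Ext.contravariant_sequence_exact₃ (kerSC_shortExact g hg) N x
    (Ext.eq_zero_of_projective (P := ModuleCat.of A P) _) (add_comm 1 n)

theorem subsingleton_succ {P M : Type u} [AddCommGroup P] [Module A P] [AddCommGroup M]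
    [Module A M] [Module.Projective A P] (g : P →ₗ[A] M) (hg : Function.Surjective g)
    (N : ModuleCat.{u} A) (n : ℕ)
    (h : Subsingleton (Ext (ModuleCat.of A (LinearMap.ker g)) N n)) :
    Subsingleton (Ext (ModuleCat.of A M) N (n + 1)) := by
  refine subsingleton_of_forall_eq 0 fun x => ?_
  obtain ⟨y, rfl⟩ := exists_of_succ g hg N n x
  rw [Subsingleton.elim y 0, Ext.comp_zero]

theorem smul_succ_eq_zero {P M : Type u} [AddCommGroup P] [Module A P] [AddCommGroup M]
    [Module A M] [Module.Projective A P] (g : P →ₗ[A] M) (hg : Function.Surjective g)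
    (N : ModuleCat.{u} A) (n : ℕ) (a : A)
    (h : ∀ y : Ext (ModuleCat.of A (LinearMap.ker g)) N n, a • y = 0)
    (x : Ext (ModuleCat.of A M) N (n + 1)) : a • x = 0 := by
  obtain ⟨y, rfl⟩ := exists_of_succ g hg N n x
  rw [← Ext.comp_smul, h, Ext.comp_zero]

/-- `Ext¹(M, N) = 0` if all maps `ker g → N` extend to `P`. -/
theorem subsingleton_one {P M : Type u} [AddCommGroup P] [Module A P] [AddCommGroup M]
    [Module A M] [Module.Projective A P] (g : P →ₗ[A] M) (hg : Function.Surjective g)
    (N : Type u) [AddCommGroup N] [Module A N]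
    (h : ∀ φ : LinearMap.ker g →ₗ[A] N, ∃ ψ : P →ₗ[A] N, ψ ∘ₗ (LinearMap.ker g).subtype = φ) :
    Subsingleton (Ext (ModuleCat.of A M) (ModuleCat.of A N) 1) := by
  refine subsingleton_of_forall_eq 0 fun x => ?_
  obtain ⟨y, rfl⟩ := exists_of_succ g hg (ModuleCat.of A N) 0 x
  obtain ⟨φ, rfl⟩ := (Ext.mk₀_bijective _ _).2 y
  obtain ⟨ψ, hψ⟩ := h φ.hom
  have h1 : φ = (kerSC g).f ≫ ModuleCat.ofHom ψ := by
    ext x
    exact (DFunLike.congr_fun hψ x).symm
  rw [h1, ← Ext.mk₀_comp_mk₀]
  exact (Ext.comp_assoc_of_second_deg_zero _ _ _ _).symm.trans (by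
    rw [ShortComplex.ShortExact.extClass_comp, Ext.zero_comp])

/-- maps into the quotient lift if `Ext¹(M, N₁) = 0` -/
theorem exists_lift {P Q M : Type u} [AddCommGroup P] [Module A P] [AddCommGroup Q]
    [Module A Q] [AddCommGroup M] [Module A M] (g : P →ₗ[A] Q) (hg : Function.Surjective g)
    (h : Subsingleton (Ext (ModuleCat.of A M) (ModuleCat.of A (LinearMap.ker g)) 1))
    (φ : M →ₗ[A] Q) : ∃ ψ : M →ₗ[A] P, g ∘ₗ ψ = φ := by
  have hS := kerSC_shortExact g hg
  obtain ⟨y, hy⟩ := Ext.covariant_sequence_exact₃ (X := ModuleCat.of A M) hS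
    (Ext.mk₀ (ModuleCat.ofHom φ)) (zero_add 1) (@Subsingleton.elim _ h _ _)
  obtain ⟨ψ, rfl⟩ := (Ext.mk₀_bijective _ _).2 y
  rw [Ext.mk₀_comp_mk₀] at hy
  have h1 := (Ext.mk₀_bijective _ _).1 hy
  refine ⟨ψ.hom, ?_⟩
  ext m
  exact congrArg (fun f => f.hom m) h1

/-- if multiplication by `a` on `M` factors through a projective module, `a` kills `Ext` in positive
degrees. -/
theorem smul_eq_zero_of_factor {P M : Type u} [AddCommGroup P] [Module A P] [AddCommGroup M]
    [Module A M] [Module.Projective A P] (a : A) (f : M →ₗ[A] P) (g : P →ₗ[A] M)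
    (hfg : ∀ m, g (f m) = a • m) (N : ModuleCat.{u} A) (n : ℕ)
    (x : Ext (ModuleCat.of A M) N (n + 1)) : a • x = 0 := by
  have : Projective (ModuleCat.of A P) := (IsProjective.iff_projective _).mp inferInstance
  have h1 : a • x = (Ext.mk₀ (ModuleCat.ofHom f ≫ ModuleCat.ofHom g)).comp x (zero_add _) := by
    have h2 : ModuleCat.ofHom f ≫ ModuleCat.ofHom g = a • 𝟙 (ModuleCat.of A M) := by
      ext m
      exact hfg m
    rw [h2, Ext.mk₀_smul, Ext.smul_comp, Ext.mk₀_id_comp]
  rw [h1, ← Ext.mk₀_comp_mk₀]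
  rw [Ext.comp_assoc_of_second_deg_zero]
  rw [Ext.eq_zero_of_projective ((Ext.mk₀ (ModuleCat.ofHom g)).comp x (zero_add (n + 1))),
    Ext.comp_zero]

/-- if `Ext¹(M, N) = 0`, maps from the kernel of a surjection onto `M` to `N` extend. -/
theorem exists_extend {P M N : Type u} [AddCommGroup P] [Module A P] [AddCommGroup M]
    [Module A M] [AddCommGroup N] [Module A N] (g : P →ₗ[A] M) (hg : Function.Surjective g)
    (h : Subsingleton (Ext (ModuleCat.of A M) (ModuleCat.of A N) 1))
    (φ : LinearMap.ker g →ₗ[A] N) : ∃ ψ : P →ₗ[A] N, ψ ∘ₗ (LinearMap.ker g).subtype = φ := by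
  have hS := kerSC_shortExact g hg
  obtain ⟨y, hy⟩ := Ext.contravariant_sequence_exact₁ hS (ModuleCat.of A N)
    (Ext.mk₀ (ModuleCat.ofHom φ)) (add_zero 1) (@Subsingleton.elim _ h _ _)
  obtain ⟨ψ, rfl⟩ := (Ext.mk₀_bijective _ _).2 y
  rw [Ext.mk₀_comp_mk₀] at hy
  have h1 := (Ext.mk₀_bijective _ _).1 hy
  refine ⟨ψ.hom, ?_⟩
  ext m
  exact congrArg (fun f => f.hom m) h1

end K940.MultCrvExt
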