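import Groth.Agent.MultCrv.K940.Duality
import Groth.Agent.MultCrv.K940.ExtLemmas
import Groth.Agent.S17941

/-! `Ext` of torsion-free modules over `R[X]/(X^n)` -/

set_option autoImplicit false
universe u v w

namespace K940.MultCrvExtTF
open Polynomial MultCrv K940.MultCrvBasic K940.MultCrvDuality K940.MultCrvExt
open CategoryTheory Abelian

variable (R : Type u) [CommRing R] [IsDomain R] [IsDiscreteValuationRing R] (n : ℕ)

theorem isNoetherianRing_Rn : IsNoetherianRing (Rn R n) := inferInstance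

theorem isTorsionFree_pi (r : ℕ) : Module.IsTorsionFree R (Fin r → Rn R n) :=
  inferInstance

theorem isTorsionFree_sub {P : Type u} [AddCommGroup P] [Module (Rn R n) P] [Module R P]
    [IsScalarTower R (Rn R n) P] [Module.IsTorsionFree R P] (K : Submodule (Rn R n) P) :
    Module.IsTorsionFree R ↥K :=
  Function.Injective.moduleIsTorsionFree (N := P) (fun x => x.1) Subtype.val_injective
    (fun _ _ => rfl)

theorem exists_presentation (M : Type u) [AddCommGroup M] [Module (Rn R n) M]
    [Module.Finite (Rn R n) M] :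
    ∃ (r : ℕ) (g : (Fin r → Rn R n) →ₗ[Rn R n] M), Function.Surjective g ∧
      Module.IsTorsionFree R ↥(LinearMap.ker g) ∧ Module.Finite (Rn R n) ↥(LinearMap.ker g) := by
  obtain ⟨r, g, hg⟩ := Module.Finite.exists_fin' (Rn R n) M
  have := isNoetherianRing_Rn R n
  have := isTorsionFree_pi R n r
  exact ⟨r, g, hg, isTorsionFree_sub R n _, inferInstance⟩

theorem subsingleton_ext_self (hn : 1 ≤ n) (i : ℕ) :
    ∀ (M : Type u) [AddCommGroup M] [Module (Rn R n) M] [Module R M] [IsScalarTower R (Rn R n) M]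
      [Module.Finite (Rn R n) M] [Module.IsTorsionFree R M],
      Subsingleton (Ext (ModuleCat.of (Rn R n) M) (ModuleCat.of (Rn R n) (Rn R n)) (i + 1)) := by
  induction i with
  | zero =>
    intro M _ _ _ _ _ _
    obtain ⟨r, g, hg, _, _⟩ := exists_presentation R n M
    have := isTorsionFree_pi R n r
    refine subsingleton_one g hg (Rn R n) fun φ => ?_
    obtain ⟨ψ, hψ⟩ := Groth.Agent.S17941.result R n hn (LinearMap.ker g) (Fin r → Rn R n) M
      (LinearMap.ker g).subtype g Subtype.val_injective hg (Submodule.range_subtype _) φ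
    exact ⟨ψ, hψ⟩
  | succ i ih =>
    intro M _ _ _ _ _ _
    obtain ⟨r, g, hg, _, _⟩ := exists_presentation R n M
    exact subsingleton_succ g hg _ _ (ih _)

theorem subsingleton_ext_self_of_two_le (hn : 1 ≤ n) (i : ℕ) 
    (M : Type u) [AddCommGroup M] [Module (Rn R n) M] [Module.Finite (Rn R n) M] :
      Subsingleton (Ext (ModuleCat.of (Rn R n) M) (ModuleCat.of (Rn R n) (Rn R n)) (i + 2)) := by
  obtain ⟨r, g, hg, _, _⟩ := exists_presentation R n M
  exact subsingleton_succ g hg _ _ (subsingleton_ext_self R n hn i _)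

variable {R n}

/-- the action on an element killed by `z`. -/
theorem smul_of_z_smul_eq_zero {M : Type u} [AddCommGroup M] [Module (Rn R n) M] (hn : 1 ≤ n)
    (a : Rn R n) (y : M) (hy : z R n • y = 0) :
    a • y = algebraMap R (Rn R n) (coAdd R n 0 hn a) • y := by
  refine Rn_induction R n
    (P := fun a => a • y = algebraMap R (Rn R n) (coAdd R n 0 hn a) • y) a ?_ ?_ ?_
  · intro r
    congr 2
    change r = coAdd R n 0 hn (Ideal.Quotient.mk _ (C r))
    rw [coAdd_mk, coeff_C_zero]
  · intro a b ha hb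
    rw [add_smul, ha, hb, map_add, map_add, add_smul]
  · intro a _
    have h1 : coAdd R n 0 hn (z R n * a) = 0 := by
      have := coAdd_zpow_mul R n 1 0 hn a
      rw [pow_one] at this
      rw [this, dif_neg (by omega)]
    rw [h1, map_zero, mul_comm, mul_smul, hy, smul_zero]
    exact (zero_smul (Rn R n) y).symm

theorem exists_retraction (M : Type u) [AddCommGroup M] [Module (Rn R n) M] [Module R M]
    [IsScalarTower R (Rn R n) M] [Module.Finite (Rn R n) M] [Module.IsTorsionFree R M] :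
    ∃ p : M →ₗ[R] ↥(filt2 R n M 1), ∀ y : ↥(filt2 R n M 1), p y = y := by
  have := finite_of_finite R n M
  let g := (mulZ R n M 1).rangeRestrict
  have hg : Function.Surjective g := LinearMap.surjective_rangeRestrict _
  have : Module.Finite R ↥(LinearMap.range (mulZ R n M 1)) := Module.Finite.range _
  have : Module.Free R ↥(LinearMap.range (mulZ R n M 1)) := Module.free_of_finite_type_torsion_free'
  obtain ⟨s, hs⟩ := Module.projective_lifting_property g LinearMap.id hg
  have hmem : ∀ m : M, m - s (g m) ∈ (filt2 R n M 1).restrictScalars R := by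
    intro m
    change m - s (g m) ∈ filt2 R n M 1
    rw [mem_filt2]
    have h1 := congrArg Subtype.val (DFunLike.congr_fun hs (g m))
    change z R n ^ 1 • s (g m) = z R n ^ 1 • m at h1
    rw [smul_sub, h1, sub_self]
  refine ⟨(LinearMap.id - s ∘ₗ g).codRestrict ((filt2 R n M 1).restrictScalars R) hmem, ?_⟩
  rintro ⟨y, hy⟩
  apply Subtype.ext
  change y - s (g y) = y
  have h1 : g y = 0 := Subtype.ext (mem_filt2.mp hy)
  rw [h1, map_zero, sub_zero]

/-- on a torsion-free module, multiplication by `z^(n-1)` factors through a free module. -/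
theorem exists_factor (hn : 1 ≤ n) (M : Type u) [AddCommGroup M] [Module (Rn R n) M] [Module R M]
    [IsScalarTower R (Rn R n) M] [Module.Finite (Rn R n) M] [Module.IsTorsionFree R M] :
    ∃ (s : ℕ) (f : M →ₗ[Rn R n] (Fin s → Rn R n)) (g : (Fin s → Rn R n) →ₗ[Rn R n] M),
      ∀ m, g (f m) = z R n ^ (n - 1) • m := by
  obtain ⟨p, hp⟩ := exists_retraction (R := R) (n := n) M
  have := finite_sub (R := R) (n := n) (filt2 R n M 1)
  have := isTorsionFree_filt2 (R := R) (n := n) (M := M) 1
  obtain ⟨s, b⟩ := Module.basisOfFiniteTypeTorsionFree' (R := R) (M := ↥(filt2 R n M 1))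
  let f : M →ₗ[Rn R n] (Fin s → Rn R n) := LinearMap.pi fun j => up ((b.coord j) ∘ₗ p)
  let g : (Fin s → Rn R n) →ₗ[Rn R n] M :=
    Fintype.linearCombination (Rn R n) (fun j => ((b j : ↥(filt2 R n M 1)) : M))
  refine ⟨s, f, g, fun m => ?_⟩
  have h1 : g (f m) = ∑ j, (up (n := n) ((b.coord j) ∘ₗ p) m) • ((b j : ↥(filt2 R n M 1)) : M) := by
    rw [Fintype.linearCombination_apply]; rfl
  have hm : z R n ^ (n - 1) • m ∈ filt2 R n M 1 := by
    rw [mem_filt2, smul_smul, ← pow_add, z_pow_eq_zero R n (by omega)]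
    exact zero_smul (Rn R n) m
  have h2 : p (z R n ^ (n - 1) • m) = ⟨z R n ^ (n - 1) • m, hm⟩ := hp ⟨_, hm⟩
  have h3 : ∀ j, (up (n := n) ((b.coord j) ∘ₗ p) m) • ((b j : ↥(filt2 R n M 1)) : M) =
      (((b.coord j) (⟨z R n ^ (n - 1) • m, hm⟩ : ↥(filt2 R n M 1))) • b j : ↥(filt2 R n M 1)) := by
    intro j
    have hbj : z R n • ((b j : ↥(filt2 R n M 1)) : M) = 0 := by
      have := mem_filt2.mp (b j).2
      rwa [pow_one] at this
    rw [smul_of_z_smul_eq_zero hn _ _ hbj, coAdd_up, ← h2, algebraMap_smul]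
    rfl
  rw [h1, Finset.sum_congr rfl (fun j _ => h3 j)]
  have h4 := b.sum_repr (⟨z R n ^ (n - 1) • m, hm⟩ : ↥(filt2 R n M 1))
  have h5 := congrArg Subtype.val h4
  rw [AddSubmonoidClass.coe_finsetSum] at h5
  exact h5

theorem zpow_smul_ext_eq_zero (hn : 1 ≤ n) (M : Type u) [AddCommGroup M] [Module (Rn R n) M]
    [Module R M] [IsScalarTower R (Rn R n) M] [Module.Finite (Rn R n) M]
    [Module.IsTorsionFree R M] (N : ModuleCat.{u} (Rn R n)) (i : ℕ)
    (x : Ext (ModuleCat.of (Rn R n) M) N (i + 1)) : z R n ^ (n - 1) • x = 0 := by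
  obtain ⟨s, f, g, hfg⟩ := exists_factor (R := R) (n := n) hn M
  exact smul_eq_zero_of_factor _ f g hfg N i x

theorem zpow_smul_ext_eq_zero_of_two_le (hn : 1 ≤ n) (M : Type u) [AddCommGroup M]
    [Module (Rn R n) M] [Module.Finite (Rn R n) M] (N : ModuleCat.{u} (Rn R n)) (i : ℕ)
    (x : Ext (ModuleCat.of (Rn R n) M) N (i + 2)) : z R n ^ (n - 1) • x = 0 := by
  obtain ⟨r, g, hg, _, _⟩ := exists_presentation R n M
  exact smul_succ_eq_zero g hg N (i + 1) _ (fun y => zpow_smul_ext_eq_zero hn _ N i y) x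

/-- converse: `Ext¹(M, A) = 0` implies torsion-free -/
theorem isTorsionFree_of_ext (hn : 1 ≤ n) (M : Type u) [AddCommGroup M] [Module (Rn R n) M]
    [Module R M] [IsScalarTower R (Rn R n) M] [Module.Finite (Rn R n) M]
    (h : Subsingleton (Ext (ModuleCat.of (Rn R n) M) (ModuleCat.of (Rn R n) (Rn R n)) 1)) :
    Module.IsTorsionFree R M := by
  obtain ⟨r, g, hg, _, _⟩ := exists_presentation R n M
  have := finite_of_finite R n ↥(LinearMap.ker g)
  obtain ⟨s, b⟩ := Module.basisOfFiniteTypeTorsionFree' (R := R) (M := ↥(LinearMap.ker g))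
  have hext : ∀ j, ∃ ψ : (Fin r → Rn R n) →ₗ[R] R, ∀ y : ↥(LinearMap.ker g), ψ y = b.coord j y := by
    intro j
    obtain ⟨ψ, hψ⟩ := exists_extend g hg h (up (b.coord j))
    refine ⟨top hn ψ, fun y => ?_⟩
    have h1 : ψ (y : Fin r → Rn R n) = up (b.coord j) y := DFunLike.congr_fun hψ y
    rw [top_apply, h1, coAdd_up, Nat.sub_self, pow_zero, one_smul]
  choose ψ hψ using hext
  rw [Module.isTorsionFree_iff_smul_eq_zero]
  intro c m hcm
  by_cases hc : c = 0
  · exact Or.inl hc
  right
  obtain ⟨x, rfl⟩ := hg m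
  have hmem : c • x ∈ LinearMap.ker g := by
    rw [LinearMap.mem_ker, ← algebraMap_smul (Rn R n) c x, map_smul, algebraMap_smul, hcm]
  let y : ↥(LinearMap.ker g) := ∑ j, ψ j x • b j
  have hy : c • x = c • (y : Fin r → Rn R n) := by
    have h1 := b.sum_repr (⟨c • x, hmem⟩ : ↥(LinearMap.ker g))
    have h2 : ∀ j, b.repr (⟨c • x, hmem⟩ : ↥(LinearMap.ker g)) j = c • ψ j x := by
      intro j
      rw [← map_smul]
      exact (hψ j ⟨c • x, hmem⟩).symm
    have h3 : c • y = ⟨c • x, hmem⟩ := by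
      rw [← h1, Finset.smul_sum]
      refine Finset.sum_congr rfl fun j _ => ?_
      rw [h2, smul_assoc]
    exact (congrArg Subtype.val h3).symm
  have hxy : x = y := smul_right_injective _ hc hy
  rw [hxy]
  exact y.2

end K940.MultCrvExtTF
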