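import Groth.Agent.MultCrv.K940.Basic

/-! freeness of the graded pieces `G_i` and of `Γ^(i)` -/

set_option autoImplicit false
universe u v w

namespace K940.MultCrvGraded
open Polynomial MultCrv K940.MultCrvBasic

section
variable (R : Type u) [CommRing R] (n : ℕ)
  (M : Type u) [AddCommGroup M] [Module (Rn R n) M]
  [Module R M] [IsScalarTower R (Rn R n) M]

/-- `G_i(M)` has no torsion, in elementary terms -/
def TFG (i : ℕ) : Prop :=
  ∀ r : R, r ≠ 0 → ∀ m m' : M, r • (z R n ^ i • m) = z R n ^ (i + 1) • m' →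
    ∃ m'' : M, z R n ^ i • m = z R n ^ (i + 1) • m''

/-- `Γ^(i)(M)` has no torsion, in elementary terms -/
def TFGam (i : ℕ) : Prop :=
  ∀ r : R, r ≠ 0 → ∀ u w : M, z R n ^ (i + 1) • u = 0 → z R n ^ (i + 2) • w = 0 →
    r • (z R n ^ i • u) = z R n ^ (i + 1) • w →
    ∃ w' : M, z R n ^ (i + 2) • w' = 0 ∧ z R n ^ i • u = z R n ^ (i + 1) • w'

variable {R n M}

theorem TFGam_of_TFG {i : ℕ} (h : TFG R n M i) : TFGam R n M i := by
  intro r hr u w hu hw huw
  obtain ⟨w', hw'⟩ := h r hr u w huw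
  refine ⟨w', ?_, hw'⟩
  rw [pow_succ', mul_smul, ← hw', smul_smul, ← pow_succ', hu]

theorem TFG_of_succ {i : ℕ} (h : TFG R n M (i + 1)) (h' : TFGam R n M i) : TFG R n M i := by
  intro r hr m m' hm
  have h1 : r • (z R n ^ (i + 1) • m) = z R n ^ (i + 1 + 1) • m' := by
    rw [pow_succ', mul_smul, smul_comm', hm, smul_smul, ← pow_succ']
  obtain ⟨m'', hm''⟩ := h r hr m m' h1
  have hu : z R n ^ (i + 1) • (m - z R n • m'') = 0 := by
    rw [smul_sub, smul_smul, ← pow_succ, hm'', sub_self]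
  have hw1 : r • (z R n ^ i • (m - z R n • m'')) = z R n ^ (i + 1) • (m' - r • m'') := by
    rw [smul_sub, smul_sub, smul_sub, hm, smul_smul, ← pow_succ, smul_comm' r]
  have hw : z R n ^ (i + 2) • (m' - r • m'') = 0 := by
    rw [pow_succ', mul_smul, ← hw1, ← smul_comm' r, smul_smul, ← pow_succ', hu, smul_zero]
  obtain ⟨w', _, hw''⟩ := h' r hr _ _ hu hw hw1
  refine ⟨m'' + w', ?_⟩
  rw [smul_add, ← hw'', smul_sub, smul_smul, ← pow_succ]
  abel

theorem TFG_of_le {i : ℕ} (hi : n ≤ i) : TFG R n M i := by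
  intro r hr m m' hm
  refine ⟨0, ?_⟩
  rw [smul_zero, z_pow_eq_zero R n hi]
  exact zero_smul (Rn R n) m

theorem TFG_of_forall (h : ∀ i, i < n → TFGam R n M i) (i : ℕ) : TFG R n M i := by
  by_cases hi : n ≤ i
  · exact TFG_of_le hi
  · exact TFG_of_succ (TFG_of_forall h (i + 1)) (h i (by omega))
termination_by n - i

theorem forall_TFG_iff : (∀ i, i < n → TFG R n M i) ↔ ∀ i, i < n → TFGam R n M i :=
  ⟨fun h i hi => TFGam_of_TFG (h i hi), fun h i _ => TFG_of_forall h i⟩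

variable [IsDomain R]

theorem isTorsionFree_G1_iff (i : ℕ) : Module.IsTorsionFree R (G1 R n M i) ↔ TFG R n M i := by
  rw [Module.isTorsionFree_iff_smul_eq_zero]
  constructor
  · intro h r hr m m' hm
    have h1 := h r (Submodule.Quotient.mk ⟨z R n ^ i • m, mem_filt.mpr ⟨m, rfl⟩⟩) (by
      change (Submodule.Quotient.mk (r • (⟨z R n ^ i • m, mem_filt.mpr ⟨m, rfl⟩⟩ : ↥(filt R n M i))) : G1 R n M i) = 0
      rw [Submodule.Quotient.mk_eq_zero, Submodule.mem_comap]
      exact mem_filt.mpr ⟨m', hm.symm⟩)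
    have h2 := h1.resolve_left hr
    rw [Submodule.Quotient.mk_eq_zero, Submodule.mem_comap] at h2
    obtain ⟨m'', hm''⟩ := mem_filt.mp h2
    exact ⟨m'', hm''.symm⟩
  · intro h r q hrq
    by_cases hr : r = 0
    · exact Or.inl hr
    right
    obtain ⟨⟨u, hu⟩, rfl⟩ := Submodule.Quotient.mk_surjective _ q
    obtain ⟨m, rfl⟩ := mem_filt.mp hu
    have h1 : (Submodule.Quotient.mk (r • (⟨z R n ^ i • m, hu⟩ : ↥(filt R n M i))) : G1 R n M i) = 0 := hrq
    rw [Submodule.Quotient.mk_eq_zero, Submodule.mem_comap] at h1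
    obtain ⟨m', hm'⟩ := mem_filt.mp h1
    obtain ⟨m'', hm''⟩ := h r hr m m' hm'.symm
    rw [Submodule.Quotient.mk_eq_zero, Submodule.mem_comap]
    exact mem_filt.mpr ⟨m'', hm''.symm⟩

omit [IsDomain R] [Module R M] [IsScalarTower R (Rn R n) M] in
theorem mk_mem_range_iff (i : ℕ) (u : ↥(filt2 R n M (i + 1))) :
    (Submodule.Quotient.mk u : G2 R n M (i + 1)) ∈ LinearMap.range (lamG2 R n M i) ↔
      ∃ w : M, z R n ^ (i + 2) • w = 0 ∧ z R n ^ i • (u : M) = z R n ^ (i + 1) • w := by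
  rw [LinearMap.mem_range]
  constructor
  · rintro ⟨q, hq⟩
    obtain ⟨⟨w, hw⟩, rfl⟩ := Submodule.Quotient.mk_surjective _ q
    have h1 : (Submodule.Quotient.mk (zDown R n M (i + 1) ⟨w, hw⟩) : G2 R n M (i + 1)) =
      Submodule.Quotient.mk u := hq
    rw [Submodule.Quotient.eq, Submodule.mem_comap] at h1
    have h2 := mem_filt2.mp h1
    refine ⟨w, mem_filt2.mp hw, ?_⟩
    change z R n ^ (i + 1 - 1) • (z R n • w - (u : M)) = 0 at h2
    rw [Nat.add_sub_cancel, smul_sub, smul_smul, ← pow_succ, sub_eq_zero] at h2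
    exact h2.symm
  · rintro ⟨w, hw, huw⟩
    refine ⟨Submodule.Quotient.mk ⟨w, mem_filt2.mpr hw⟩, ?_⟩
    change (Submodule.Quotient.mk (zDown R n M (i + 1) ⟨w, mem_filt2.mpr hw⟩) : G2 R n M (i + 1)) =
      Submodule.Quotient.mk u
    rw [Submodule.Quotient.eq, Submodule.mem_comap]
    apply mem_filt2.mpr
    change z R n ^ (i + 1 - 1) • (z R n • w - (u : M)) = 0
    rw [Nat.add_sub_cancel, smul_sub, smul_smul, ← pow_succ, sub_eq_zero]
    exact huw.symm

theorem isTorsionFree_Gam2_iff (i : ℕ) : Module.IsTorsionFree R (Gam2 R n M i) ↔ TFGam R n M i := by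
  rw [Module.isTorsionFree_iff_smul_eq_zero]
  constructor
  · intro h r hr u w hu hw huw
    have h1 := h r (Submodule.Quotient.mk (Submodule.Quotient.mk ⟨u, mem_filt2.mpr hu⟩)) (by
      change (Submodule.Quotient.mk (Submodule.Quotient.mk
        (r • (⟨u, mem_filt2.mpr hu⟩ : ↥(filt2 R n M (i + 1)))) : G2 R n M (i + 1)) : Gam2 R n M i) = 0
      rw [Submodule.Quotient.mk_eq_zero, mk_mem_range_iff]
      refine ⟨w, hw, ?_⟩
      change z R n ^ i • (r • u) = _
      rw [← smul_comm', huw])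
    have h2 := h1.resolve_left hr
    rw [Submodule.Quotient.mk_eq_zero, mk_mem_range_iff] at h2
    exact h2
  · intro h r q hrq
    by_cases hr : r = 0
    · exact Or.inl hr
    right
    obtain ⟨q, rfl⟩ := Submodule.Quotient.mk_surjective _ q
    obtain ⟨⟨u, hu⟩, rfl⟩ := Submodule.Quotient.mk_surjective _ q
    have h1 : (Submodule.Quotient.mk (Submodule.Quotient.mk
        (r • (⟨u, hu⟩ : ↥(filt2 R n M (i + 1)))) : G2 R n M (i + 1)) : Gam2 R n M i) = 0 := hrq
    rw [Submodule.Quotient.mk_eq_zero, mk_mem_range_iff] at h1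
    obtain ⟨w, hw, huw⟩ := h1
    rw [Submodule.Quotient.mk_eq_zero, mk_mem_range_iff]
    change z R n ^ i • (r • u) = _ at huw
    rw [← smul_comm'] at huw
    exact h r hr u w (mem_filt2.mp hu) hw huw

end

end K940.MultCrvGraded
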