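import Groth.Agent.MultCrv.K940.Basic
import Mathlib.Algebra.Module.Projective

/-! kernels of minimal covers of quasi-free modules -/

set_option autoImplicit false
universe u v w

namespace K940.MultCrvQF
open Polynomial MultCrv K940.MultCrvBasic

section mu
variable (R : Type u) [CommRing R] (n : ℕ)

theorem zpow_mul_eq_zero_iff {k l : ℕ} (h : k + l = n) (a : Rn R n) :
    z R n ^ l * a = 0 ↔ a ∈ Ideal.span {z R n ^ k} := by
  obtain ⟨p, rfl⟩ := Ideal.Quotient.mk_surjective a
  have e : (z R n ^ l * Ideal.Quotient.mk _ p : Rn R n) = Ideal.Quotient.mk _ (X ^ l * p) := by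
    rw [map_mul, map_pow]
  rw [e, Ideal.Quotient.eq_zero_iff_mem, Ideal.mem_span_singleton, X_pow_dvd_iff]
  constructor
  · intro hp
    have h1 : (X : R[X]) ^ k ∣ p := by
      rw [X_pow_dvd_iff]
      intro d hd
      have := hp (d + l) (by omega)
      rwa [coeff_X_pow_mul] at this
    obtain ⟨q, rfl⟩ := h1
    rw [map_mul, map_pow]
    exact Ideal.mul_mem_right _ _ (Ideal.subset_span rfl)
  · intro hp d hd
    rw [Ideal.mem_span_singleton] at hp
    obtain ⟨b, hb⟩ := hp
    obtain ⟨q, rfl⟩ := Ideal.Quotient.mk_surjective b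
    rw [← map_pow, ← map_mul, Ideal.Quotient.eq, Ideal.mem_span_singleton, X_pow_dvd_iff] at hb
    rw [coeff_X_pow_mul']
    split_ifs with hld
    · have := hb (d - l) (by omega)
      rw [coeff_sub, sub_eq_zero, coeff_X_pow_mul', if_neg (by omega)] at this
      exact this
    · rfl

/-- multiplication by `z^l`, `A/(z^k) → A`, `k + l = n`. -/
noncomputable def mu (k l : ℕ) (h : k + l = n) : Oi R n k →ₗ[Rn R n] Rn R n :=
  Submodule.liftQ (Ideal.span {z R n ^ k}) (LinearMap.mulLeft (Rn R n) (z R n ^ l)) (by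
    intro a ha
    rw [LinearMap.mem_ker, LinearMap.mulLeft_apply]
    exact (zpow_mul_eq_zero_iff R n h a).mpr ha)

theorem mu_mk (k l : ℕ) (h : k + l = n) (a : Rn R n) :
    mu R n k l h (Ideal.Quotient.mk _ a) = z R n ^ l * a := rfl

theorem mu_injective (k l : ℕ) (h : k + l = n) : Function.Injective (mu R n k l h) := by
  rw [injective_iff_map_eq_zero]
  intro a ha
  obtain ⟨a, rfl⟩ := Ideal.Quotient.mk_surjective a
  rw [mu_mk, zpow_mul_eq_zero_iff R n h] at ha
  exact Ideal.Quotient.eq_zero_iff_mem.mpr ha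

end mu

section
variable (R : Type u) [CommRing R] (n : ℕ) (m : Fin n → ℕ)

/-- the standard cover -/
abbrev Cov : Type u := (i : Fin n) → (Fin (m i) → Rn R n)

/-- the quotient map of the standard cover onto the model -/
noncomputable def qmap : Cov R n m →ₗ[Rn R n] ((i : Fin n) → (Fin (m i) → Oi R n (i.1 + 1))) :=
  LinearMap.pi fun i => LinearMap.pi fun k =>
    (Submodule.mkQ (Ideal.span {z R n ^ (i.1 + 1)})) ∘ₗ (LinearMap.proj k) ∘ₗ (LinearMap.proj i)

theorem qmap_apply (p : Cov R n m) (i : Fin n) (k : Fin (m i)) :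
    qmap R n m p i k = Ideal.Quotient.mk _ (p i k) := rfl

theorem qmap_surjective : Function.Surjective (qmap R n m) := by
  intro v
  choose a ha using fun i k => Ideal.Quotient.mk_surjective (v i k)
  exact ⟨a, by funext i k; rw [qmap_apply, ha]⟩

theorem qmap_eq_zero_iff (p : Cov R n m) :
    qmap R n m p = 0 ↔ ∀ i k, p i k ∈ Ideal.span {z R n ^ (i.1 + 1)} := by
  constructor
  · intro h i k
    have := congrFun (congrFun h i) k
    rw [qmap_apply] at this
    exact Ideal.Quotient.eq_zero_iff_mem.mp this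
  · intro h
    funext i k
    rw [qmap_apply]
    exact Ideal.Quotient.eq_zero_iff_mem.mpr (h i k)

theorem mem_filt_one_of_qmap_eq_zero (p : Cov R n m) (h : qmap R n m p = 0) :
    p ∈ filt R n (Cov R n m) 1 := by
  rw [qmap_eq_zero_iff] at h
  have h1 : ∀ i k, ∃ a, p i k = a * z R n ^ (i.1 + 1) := by
    intro i k
    obtain ⟨a, ha⟩ := Ideal.mem_span_singleton'.mp (h i k)
    exact ⟨a, ha.symm⟩
  choose a ha using h1
  refine mem_filt.mpr ⟨fun i k => a i k * z R n ^ i.1, ?_⟩
  funext i k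
  change z R n ^ 1 * (a i k * z R n ^ i.1) = p i k
  rw [ha, pow_one, pow_succ]
  ring

theorem rev_lt {i : Fin n} (h : i.1 + 1 < n) : n - 2 - i.1 < n := by omega

theorem revType_rev {i : Fin n} (h : i.1 + 1 < n) :
    revType n m ⟨n - 2 - i.1, rev_lt n h⟩ = m i := by
  have h1 : n - 2 - i.1 + 1 < n := by omega
  rw [revType, dif_pos h1]
  congr 1
  apply Fin.ext
  simp only
  omega

theorem revType_of_not {i : Fin n} (h : ¬ i.1 + 1 < n) : revType n m i = 0 := by
  rw [revType, dif_neg h]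

theorem revType_eq {i : Fin n} (h : i.1 + 1 < n) :
    revType n m i = m ⟨n - 2 - i.1, rev_lt n h⟩ := by
  rw [revType, dif_pos h]

/-- the map from the model of the reversed type to the cover, with image the kernel of `qmap`. -/
noncomputable def Phi : ((j : Fin n) → (Fin (revType n m j) → Oi R n (j.1 + 1))) →ₗ[Rn R n]
    Cov R n m :=
  LinearMap.pi fun i => LinearMap.pi fun k =>
    if h : i.1 + 1 < n then
      (mu R n (n - 2 - i.1 + 1) (i.1 + 1) (by omega)) ∘ₗ
        (LinearMap.proj (Fin.cast (revType_rev n m h).symm k)) ∘ₗ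
        (LinearMap.proj (⟨n - 2 - i.1, rev_lt n h⟩ : Fin n))
    else 0

theorem Phi_apply_of_lt (v : (j : Fin n) → (Fin (revType n m j) → Oi R n (j.1 + 1))) (i : Fin n)
    (k : Fin (m i)) (h : i.1 + 1 < n) :
    Phi R n m v i k = mu R n (n - 2 - i.1 + 1) (i.1 + 1) (by omega)
      (v ⟨n - 2 - i.1, rev_lt n h⟩ (Fin.cast (revType_rev n m h).symm k)) := by
  rw [Phi, LinearMap.pi_apply, LinearMap.pi_apply, dif_pos h]
  rfl

theorem Phi_apply_of_not (v : (j : Fin n) → (Fin (revType n m j) → Oi R n (j.1 + 1))) (i : Fin n)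
    (k : Fin (m i)) (h : ¬ i.1 + 1 < n) : Phi R n m v i k = 0 := by
  rw [Phi, LinearMap.pi_apply, LinearMap.pi_apply, dif_neg h]
  rfl

theorem Phi_injective : Function.Injective (Phi R n m) := by
  rw [injective_iff_map_eq_zero]
  intro v hv
  funext j k
  by_cases h : j.1 + 1 < n
  · have key : ∀ (j' : Fin n) (k' : Fin (revType n m j')), j' = j → k'.1 = k.1 → v j' k' = 0 →
        v j k = 0 := by
      intro j' k' hj hk h0
      subst hj
      have : k' = k := Fin.ext hk
      rw [← this]; exact h0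
    let i : Fin n := ⟨n - 2 - j.1, rev_lt n h⟩
    have hi : i.1 + 1 < n := by simp only [i]; omega
    let k' : Fin (m i) := Fin.cast (revType_eq n m h) k
    have h1 : Phi R n m v i k' = 0 := by rw [hv]; rfl
    rw [Phi_apply_of_lt R n m v i k' hi] at h1
    have h2 := mu_injective R n _ _ _ (h1.trans (map_zero _).symm)
    refine key _ _ ?_ ?_ h2
    · apply Fin.ext; simp only [i]; omega
    · rfl
  · exfalso
    have h1 := k.2
    have h2 := revType_of_not n m h
    omega

theorem qmap_Phi (v : (j : Fin n) → (Fin (revType n m j) → Oi R n (j.1 + 1))) :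
    qmap R n m (Phi R n m v) = 0 := by
  rw [qmap_eq_zero_iff]
  intro i k
  by_cases h : i.1 + 1 < n
  · rw [Phi_apply_of_lt R n m v i k h]
    obtain ⟨a, ha⟩ := Ideal.Quotient.mk_surjective
      (v ⟨n - 2 - i.1, rev_lt n h⟩ (Fin.cast (revType_rev n m h).symm k))
    rw [← ha, mu_mk]
    exact Ideal.mul_mem_right _ _ (Ideal.subset_span rfl)
  · rw [Phi_apply_of_not R n m v i k h]
    exact zero_mem _

theorem exists_Phi (p : Cov R n m) (hp : qmap R n m p = 0) : ∃ v, Phi R n m v = p := by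
  rw [qmap_eq_zero_iff] at hp
  have h1 : ∀ i k, ∃ a, z R n ^ (i.1 + 1) * a = p i k := by
    intro i k
    obtain ⟨a, ha⟩ := Ideal.mem_span_singleton'.mp (hp i k)
    exact ⟨a, by rw [mul_comm]; exact ha⟩
  choose a ha using h1
  have key : ∀ (i i' : Fin n) (k : Fin (m i)) (k' : Fin (m i')), i' = i → k'.1 = k.1 →
      a i' k' = a i k := by
    intro i i' k k' hi hk
    subst hi
    have : k' = k := Fin.ext hk
    rw [this]
  refine ⟨fun j k => if h : j.1 + 1 < n then
    Ideal.Quotient.mk _ (a ⟨n - 2 - j.1, rev_lt n h⟩ (Fin.cast (revType_eq n m h) k)) else 0, ?_⟩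
  funext i k
  by_cases h : i.1 + 1 < n
  · rw [Phi_apply_of_lt R n m _ i k h]
    have h2 : (⟨n - 2 - i.1, rev_lt n h⟩ : Fin n).1 + 1 < n := by simp only; omega
    rw [dif_pos h2, mu_mk, ← ha i k]
    congr 1
    apply key
    · apply Fin.ext; simp only; omega
    · rfl
  · rw [Phi_apply_of_not R n m _ i k h]
    have h3 : i.1 + 1 = n := by have := i.2; omega
    rw [← ha i k, h3, z_pow_n, zero_mul]

/-- the kernel of `qmap` is the model of the reversed type. -/
noncomputable def kerEquiv : ((j : Fin n) → (Fin (revType n m j) → Oi R n (j.1 + 1))) ≃ₗ[Rn R n]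
    ↥(LinearMap.ker (qmap R n m)) :=
  LinearEquiv.ofBijective
    ((Phi R n m).codRestrict (LinearMap.ker (qmap R n m)) (qmap_Phi R n m))
    ⟨fun a b hab => Phi_injective R n m (congrArg Subtype.val hab), fun p => by
      obtain ⟨v, hv⟩ := exists_Phi R n m p.1 p.2
      exact ⟨v, Subtype.ext hv⟩⟩

/-- the quotient map onto the model, with values in `QFModel`. -/
noncomputable def q' : Cov R n m →ₗ[Rn R n] QFModel R n m :=
  (QFModel.equivPi R n m).symm.toLinearMap ∘ₗ qmap R n m

theorem q'_eq_zero_iff (p : Cov R n m) : q' R n m p = 0 ↔ qmap R n m p = 0 := by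
  rw [q', LinearMap.comp_apply]
  exact LinearEquiv.map_eq_zero_iff (QFModel.equivPi R n m).symm

theorem q'_surjective : Function.Surjective (q' R n m) :=
  (QFModel.equivPi R n m).symm.surjective.comp (qmap_surjective R n m)

variable {R n m}

theorem map_mem_filt {M N : Type*} [AddCommGroup M] [Module (Rn R n) M] [AddCommGroup N]
    [Module (Rn R n) N] (f : M →ₗ[Rn R n] N) {i : ℕ} {x : M} (hx : x ∈ filt R n M i) :
    f x ∈ filt R n N i := by
  obtain ⟨v, rfl⟩ := mem_filt.mp hx
  exact mem_filt.mpr ⟨f v, (map_smul _ _ _).symm⟩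

/-- in the free module, `z^k v = 0` implies `v ∈ zP` when `k < n`. -/
theorem mem_filt_one_of_zpow_smul (k : ℕ) (hk : k < n) (p : Cov R n m) (hp : z R n ^ k • p = 0) :
    p ∈ filt R n (Cov R n m) 1 := by
  have h1 : ∀ i j, ∃ a, z R n * a = p i j := by
    intro i j
    have h2 : z R n ^ k * p i j = 0 := congrFun (congrFun hp i) j
    rw [zpow_mul_eq_zero_iff R n (k := n - k) (by omega)] at h2
    obtain ⟨a, ha⟩ := Ideal.mem_span_singleton'.mp h2
    refine ⟨a * z R n ^ (n - k - 1), ?_⟩
    rw [← ha]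
    have e : n - k = (n - k - 1) + 1 := by omega
    conv_rhs => rw [e, pow_succ]
    ring
  choose a ha using h1
  refine mem_filt.mpr ⟨a, ?_⟩
  funext i j
  change z R n ^ 1 * a i j = p i j
  rw [pow_one, ha]

theorem main {M : Type u} [AddCommGroup M] [Module (Rn R n) M]
    (e : M ≃ₗ[Rn R n] QFModel R n m) (r : ℕ)
    (φ : (Fin r → Rn R n) →ₗ[Rn R n] M) (hφ : Function.Surjective φ)
    (hφz : ∀ f : Fin r → Rn R n, φ f ∈ filt R n M 1 → f ∈ filt R n (Fin r → Rn R n) 1) :
    Nonempty (↥(LinearMap.ker φ) ≃ₗ[Rn R n]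
      ((j : Fin n) → (Fin (revType n m j) → Oi R n (j.1 + 1)))) := by
  obtain ⟨θ, hθ⟩ := Module.projective_lifting_property (q' R n m) (e.toLinearMap ∘ₗ φ)
    (q'_surjective R n m)
  have hθ' : ∀ f, q' R n m (θ f) = e (φ f) := fun f => DFunLike.congr_fun hθ f
  -- key: `z^k θ f = 0`, `k < n`, implies `f ∈ z A^r`
  have key : ∀ k, k < n → ∀ f, z R n ^ k • θ f = 0 → f ∈ filt R n (Fin r → Rn R n) 1 := by
    intro k hk f hf
    apply hφz
    have h1 := map_mem_filt (q' R n m) (mem_filt_one_of_zpow_smul k hk _ hf)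
    rw [hθ'] at h1
    have h2 := map_mem_filt e.symm.toLinearMap h1
    have h3 : e.symm.toLinearMap (e (φ f)) = φ f := e.symm_apply_apply _
    rwa [h3] at h2
  have hinj : Function.Injective θ := by
    rw [injective_iff_map_eq_zero]
    intro f hf
    have h1 : ∀ k, k ≤ n → ∃ g, f = z R n ^ k • g := by
      intro k
      induction k with
      | zero => intro _; exact ⟨f, by rw [pow_zero, one_smul]⟩
      | succ k ih =>
        intro hk
        obtain ⟨g, hg⟩ := ih (by omega)
        have h2 : z R n ^ k • θ g = 0 := by rw [← map_smul, ← hg, hf]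
        obtain ⟨g', hg'⟩ := mem_filt.mp (key k (by omega) g h2)
        exact ⟨g', by rw [hg, ← hg', pow_one, smul_smul, pow_succ]⟩
    obtain ⟨g, hg⟩ := h1 n le_rfl
    rw [hg, z_pow_n]
    exact zero_smul (Rn R n) g
  have hsurj : Function.Surjective θ := by
    have h0 : ∀ v, ∃ f, v - θ f ∈ filt R n (Cov R n m) 1 := by
      intro v
      obtain ⟨f, hf⟩ := hφ (e.symm (q' R n m v))
      refine ⟨f, mem_filt_one_of_qmap_eq_zero R n m _ ?_⟩
      have h2 : q' R n m (v - θ f) = 0 := by
        rw [map_sub, hθ', hf, LinearEquiv.apply_symm_apply, sub_self]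
      exact (q'_eq_zero_iff R n m _).mp h2
    intro v
    have h1 : ∀ k, ∀ v, ∃ f g, v - θ f = z R n ^ k • g := by
      intro k
      induction k with
      | zero => intro v; exact ⟨0, v, by rw [map_zero, sub_zero, pow_zero, one_smul]⟩
      | succ k ih =>
        intro v
        obtain ⟨f, g, hfg⟩ := ih v
        obtain ⟨f', hf'⟩ := h0 g
        obtain ⟨g', hg'⟩ := mem_filt.mp hf'
        refine ⟨f + z R n ^ k • f', g', ?_⟩
        rw [map_add, map_smul, ← sub_sub, hfg, ← smul_sub, ← hg', pow_one, smul_smul, pow_succ]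
    obtain ⟨f, g, hfg⟩ := h1 n v
    refine ⟨f, ?_⟩
    rw [z_pow_n] at hfg
    exact (sub_eq_zero.mp (hfg.trans (zero_smul (Rn R n) g))).symm
  let Θ : (Fin r → Rn R n) ≃ₗ[Rn R n] Cov R n m := LinearEquiv.ofBijective θ ⟨hinj, hsurj⟩
  have hker : ∀ f, f ∈ LinearMap.ker φ ↔ Θ f ∈ LinearMap.ker (qmap R n m) := by
    intro f
    rw [LinearMap.mem_ker, LinearMap.mem_ker]
    change _ ↔ qmap R n m (θ f) = 0
    rw [← q'_eq_zero_iff, hθ', LinearEquiv.map_eq_zero_iff]
  have hmap : Submodule.map Θ.toLinearMap (LinearMap.ker φ) = LinearMap.ker (qmap R n m) := by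
    ext p
    constructor
    · rintro ⟨f, hf, rfl⟩
      exact (hker f).mp hf
    · intro hp
      refine ⟨Θ.symm p, (hker _).mpr ?_, Θ.apply_symm_apply p⟩
      rw [LinearEquiv.apply_symm_apply]; exact hp
  exact ⟨(Θ.submoduleMap (LinearMap.ker φ)).trans
    ((LinearEquiv.ofEq _ _ hmap).trans (kerEquiv R n m).symm)⟩

end

end K940.MultCrvQF
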