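import Groth.Agent.MultCrv.K940.Basic
import Mathlib.LinearAlgebra.Dimension.RankNullity
import Mathlib.LinearAlgebra.Dimension.Localization

/-! ranks of the graded pieces -/

set_option autoImplicit false
universe u v w

namespace K940.MultCrvRank
open Polynomial MultCrv K940.MultCrvBasic

section
variable (R : Type u) [CommRing R] [IsDomain R] [IsNoetherianRing R] (n : ℕ)
  (M : Type u) [AddCommGroup M] [Module (Rn R n) M]
  [Module R M] [IsScalarTower R (Rn R n) M]

/-- ranks are additive for a surjective `R`-linear map -/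
theorem finrank_ker_add {P Q : Type u} [AddCommGroup P] [Module R P] [AddCommGroup Q] [Module R Q]
    [Module.Finite R P] (f : P →ₗ[R] Q) (hf : Function.Surjective f) :
    Module.finrank R Q + Module.finrank R (LinearMap.ker f) = Module.finrank R P := by
  rw [← Submodule.finrank_quotient_add_finrank (LinearMap.ker f)]
  congr 1
  exact (LinearEquiv.finrank_eq (f.quotKerEquivOfSurjective hf)).symm

variable [Module.Finite (Rn R n) M]

theorem finrank_filt (i : ℕ) :
    Module.finrank R ↥(filt R n M i) + Module.finrank R ↥(filt2 R n M i) = Module.finrank R M := by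
  have := finite_of_finite R n M
  let f : M →ₗ[R] ↥(filt R n M i) :=
    (mulZ R n M i).codRestrict ((filt R n M i).restrictScalars R) (fun m => mem_filt.mpr ⟨m, rfl⟩)
  have hf : Function.Surjective f := by
    rintro ⟨u, hu⟩
    obtain ⟨v, hv⟩ := mem_filt.mp hu
    exact ⟨v, Subtype.ext hv⟩
  have hker : ∀ x : M, x ∈ LinearMap.ker f ↔ x ∈ filt2 R n M i := by
    intro x
    rw [LinearMap.mem_ker, mem_filt2]
    exact ⟨fun h => congrArg Subtype.val h, fun h => Subtype.ext h⟩
  let e : ↥(filt2 R n M i) ≃ₗ[R] ↥(LinearMap.ker f) :=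
    { toFun := fun x => ⟨x.1, (hker _).mpr x.2⟩
      invFun := fun x => ⟨x.1, (hker _).mp x.2⟩
      map_add' := fun _ _ => rfl
      map_smul' := fun _ _ => rfl
      left_inv := fun _ => rfl
      right_inv := fun _ => rfl }
  rw [← finrank_ker_add R f hf, e.finrank_eq]

omit [IsNoetherianRing R] [IsDomain R] [Module.Finite (Rn R n) M] [Module R M]
  [IsScalarTower R (Rn R n) M] in
theorem filt_succ_le (i : ℕ) : filt R n M (i + 1) ≤ filt R n M i := by
  intro u hu
  obtain ⟨v, rfl⟩ := mem_filt.mp hu
  exact mem_filt.mpr ⟨z R n • v, by rw [smul_smul, ← pow_succ]⟩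

omit [IsNoetherianRing R] [IsDomain R] [Module.Finite (Rn R n) M] [Module R M]
  [IsScalarTower R (Rn R n) M] in
theorem filt2_le_succ (i : ℕ) : filt2 R n M i ≤ filt2 R n M (i + 1) := by
  intro u hu
  rw [mem_filt2] at hu ⊢
  rw [pow_succ', mul_smul, hu, smul_zero]

theorem finrank_quot {N' N : Submodule (Rn R n) M} (h : N' ≤ N) :
    Module.finrank R (↥N ⧸ Submodule.comap N.subtype N') + Module.finrank R ↥N' =
      Module.finrank R ↥N := by
  have := finite_sub (R := R) (n := n) N
  let f : ↥N →ₗ[R] (↥N ⧸ Submodule.comap N.subtype N') :=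
    (Submodule.mkQ (Submodule.comap N.subtype N')).restrictScalars R
  have hf : Function.Surjective f := Submodule.mkQ_surjective (Submodule.comap N.subtype N')
  have hker : ∀ x : ↥N, x ∈ LinearMap.ker f ↔ x.1 ∈ N' := by
    intro x
    rw [LinearMap.mem_ker]
    change Submodule.mkQ (Submodule.comap N.subtype N') x = 0 ↔ _
    rw [Submodule.mkQ_apply, Submodule.Quotient.mk_eq_zero, Submodule.mem_comap]
    rfl
  let e : ↥N' ≃ₗ[R] ↥(LinearMap.ker f) :=
    { toFun := fun x => ⟨⟨x.1, h x.2⟩, (hker _).mpr x.2⟩
      invFun := fun x => ⟨x.1.1, (hker _).mp x.2⟩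
      map_add' := fun _ _ => rfl
      map_smul' := fun _ _ => rfl
      left_inv := fun _ => rfl
      right_inv := fun _ => rfl }
  rw [← finrank_ker_add R f hf, e.finrank_eq]

theorem finrank_G1 (i : ℕ) :
    Module.finrank R (G1 R n M i) + Module.finrank R ↥(filt R n M (i + 1)) =
      Module.finrank R ↥(filt R n M i) :=
  finrank_quot R n M (filt_succ_le R n M i)

theorem finrank_G2 (i : ℕ) :
    Module.finrank R (G2 R n M (i + 1)) + Module.finrank R ↥(filt2 R n M i) =
      Module.finrank R ↥(filt2 R n M (i + 1)) :=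
  finrank_quot R n M (filt2_le_succ R n M i)

theorem finrank_eq (i : ℕ) :
    Module.finrank R (G2 R n M (i + 1)) = Module.finrank R (G1 R n M i) := by
  have h1 := finrank_G1 R n M i
  have h2 := finrank_G2 R n M i
  have h3 := finrank_filt R n M i
  have h4 := finrank_filt R n M (i + 1)
  omega

end

end K940.MultCrvRank
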